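import Groth.Agent.H02CA.FibreVanish.HomSky
import Groth.Agent.H02CA.FibreVanish.Dual
import Groth.Agent.H16Derived.FMKWit.Main
import Groth.Agent.H4Depth.Regular
import Groth.Agent.H10Coh.AffinePush
import Groth.Agent.H10Coh.Proper
import Groth.Agent.S1005
import Groth.Agent.LeadDev.Filt
import Groth.Agent.H16Derived.Thomason.Bounded
import Groth.Prelude.Def_Models
import Groth.Prelude.Def_SGA6

/-!
# Point sheaves span the perfect objects
-/

set_option autoImplicit false
set_option linter.style.haveILetI false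

universe u

open CategoryTheory CategoryTheory.Limits AlgebraicGeometry

attribute [local instance] HasDerivedCategory.standard

noncomputable section

namespace Groth.Agent.H02CA.Spanning

open Groth.Agent.H16Derived

variable {X : Scheme.{u}} [IsLocallyNoetherian X] [CompactSpace X]

theorem isPerfect_inD_of_isCoh (hreg : Models.IsRegularScheme X) {M : X.Modules} (hM : Coh.IsCoh M) :
    DCoh.IsPerfect (DCoh.inD X M) := by
  haveI hg : DerivedCategory.IsGE (DCoh.inD X M) 0 := inferInstance
  haveI hl : DerivedCategory.IsLE (DCoh.inD X M) 0 := inferInstance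
  refine S1005.result X hreg _ 0 0 fun i => ?_
  rcases eq_or_ne i 0 with rfl | hi
  · exact H10Coh.isCoh_of_iso ((DerivedCategory.singleFunctorCompHomologyFunctorIso X.Modules 0).app M).symm hM
  · haveI : IsNoetherian X := {}
    refine LeadDev.isCoh_of_isZero ?_
    rcases lt_or_gt_of_ne hi with h | h
    · exact DerivedCategory.isZero_of_isGE _ 0 i h
    · exact DerivedCategory.isZero_of_isLE _ 0 i h

theorem isPerfect_sky (hreg : Models.IsRegularScheme X) (x : X) (hx : IsClosed ({x} : Set X)) :
    DCoh.IsPerfect (DCoh.inD X (Sky.skyM x)) := by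
  haveI : IsClosedImmersion (X.fromSpecResidueField x) := isClosed_singleton_iff_isClosedImmersion.mp hx
  exact isPerfect_inD_of_isCoh hreg (H10Coh.isCoh_push_of_isFinite _ _ (H10Coh.isCoh_structureModule' _))

theorem isZero_of_closed_points {K : DCoh.D X} (hK : DCoh.IsPerfect K)
    (h : ∀ x : X, IsClosed ({x} : Set X) → ∀ i : ℤ, x ∉ CohB1.support (DCoh.HD K i)) : IsZero K := by
  refine MVPush.isZero_of_hd K fun i => (Thomason.isZero_hd_iff K i).2 (Set.not_nonempty_iff_eq_empty.1 fun hne => ?_)
  obtain ⟨x, hx, hxc⟩ := IsClosed.exists_closed_singleton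
    (H10Coh.isClosed_support _ (FMKWit.isCohD_of_isPerfect hK i).2) hne
  exact h x hxc i hx

/-- Right orthogonal to all points is zero. -/
theorem isZero_of_hom_from_sky (hreg : Models.IsRegularScheme X) {K : DCoh.D X}
    (hK : DCoh.IsPerfect K)
    (h : ∀ x : X, IsClosed ({x} : Set X) → ∀ (i : ℤ) (φ : DCoh.inD X (Sky.skyM x) ⟶ K⟦i⟧), φ = 0) :
    IsZero K := by
  refine isZero_of_closed_points hK fun x hx i => ?_
  haveI := hreg x
  obtain ⟨d, hd⟩ := H4Depth.exists_nat_ringKrullDim_eq (R := X.presheaf.stalk x)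
  simpa using FibreVanish.notMem_support_of_hom_sky_deg x hx d hd K hK (i + d) (h x hx _)

/-- Left orthogonal to all points is zero. -/
theorem isZero_of_hom_to_sky {K : DCoh.D X} (hK : DCoh.IsPerfect K)
    (h : ∀ x : X, IsClosed ({x} : Set X) → ∀ (i : ℤ) (φ : K ⟶ (DCoh.inD X (Sky.skyM x))⟦i⟧), φ = 0) :
    IsZero K := by
  have h0 : IsZero (Dual.ro K) := isZero_of_closed_points (Dual.isPerfect_ro hK) fun x hx i =>
    FibreVanish.notMem_support_ro x hx hK i (h x hx i)
  haveI := Dual.isIso_w hK
  exact (Dual.isZero_ro h0).of_iso (asIso (Dual.w K))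

end Groth.Agent.H02CA.Spanning
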