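import Groth.Agent.H02CA.Spanning.Criterion
import Groth.Agent.H02CA.Spanning.Points
import Groth.Agent.S6748

/-!
# Full faithfulness is detected on point sheaves
-/

set_option autoImplicit false
set_option linter.style.haveILetI false
set_option backward.isDefEq.respectTransparency false

universe u

open CategoryTheory CategoryTheory.Limits AlgebraicGeometry

attribute [local instance] HasDerivedCategory.standard

noncomputable section

namespace Groth.Agent.H02CA.Spanning

variable (k : Type u) [Field k] {X Y : Scheme.{u}} [X.Over (Spec (.of k))] [Y.Over (Spec (.of k))]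
  [IsProper (X ↘ Spec (.of k))] [IsProper (Y ↘ Spec (.of k))]
  [(SGA6.perfP X).IsTriangulated] [(SGA6.perfP Y).IsTriangulated]
  (F : (SGA6.perfP X).FullSubcategory ⥤ (SGA6.perfP Y).FullSubcategory) [F.Additive] [F.Linear k]
  [F.CommShift ℤ] [F.IsTriangulated]

include k in
theorem fullyFaithful_of_points (hreg : Models.IsRegularScheme X)
    (h : ∀ (x x' : X), IsClosed ({x} : Set X) → IsClosed ({x'} : Set X) →
        ∀ (hx : DCoh.IsPerfect (DCoh.inD X (Sky.skyM x)))
          (hx' : DCoh.IsPerfect (DCoh.inD X (Sky.skyM x'))) (i : ℤ),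
          Function.Bijective (fun f : (⟨DCoh.inD X (Sky.skyM x), hx⟩ : (SGA6.perfP X).FullSubcategory) ⟶
              (shiftFunctor ((SGA6.perfP X).FullSubcategory) i).obj ⟨DCoh.inD X (Sky.skyM x'), hx'⟩ => F.map f)) :
    F.Full ∧ F.Faithful := by
  obtain ⟨hL, hR⟩ := S6748.result k X Y hreg F
  haveI := hL
  haveI := hR
  haveI : IsLocallyNoetherian X := LocallyOfFiniteType.isLocallyNoetherian (X ↘ Spec (.of k))
  haveI : CompactSpace X := QuasiCompact.compactSpace_of_compactSpace (X ↘ Spec (.of k))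
  let P := (SGA6.perfP X).FullSubcategory
  let O : ∀ x : X, IsClosed ({x} : Set X) → P := fun x hx => ⟨DCoh.inD X (Sky.skyM x), isPerfect_sky hreg x hx⟩
  let S : P → Prop := fun E => ∃ (x : X) (hx : IsClosed ({x} : Set X)) (i : ℤ), Nonempty (E ≅ (O x hx)⟦i⟧)
  let ι := (SGA6.perfP X).ι
  refine fullyFaithful_of_spanning (S := S) F ?_ ?_ ?_ ?_
  · rintro s ⟨x, hx, i, ⟨e⟩⟩ n
    exact ⟨x, hx, i + n, ⟨(shiftFunctor P n).mapIso e ≪≫ ((shiftFunctorAdd P i n).app _).symm⟩⟩
  · intro E hE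
    refine IsZero.of_full_of_faithful_of_isZero ι E (isZero_of_hom_from_sky hreg E.property fun x hx i φ => ?_)
    obtain ⟨ψ, rfl⟩ : ∃ ψ : O x hx ⟶ E⟦i⟧, ψ.hom ≫ ((ι.commShiftIso i).app E).hom = φ :=
      ⟨ObjectProperty.homMk (φ ≫ ((ι.commShiftIso i).app E).inv),
        (Category.assoc _ _ _).trans ((congrArg (φ ≫ ·) (Iso.inv_hom_id _)).trans (Category.comp_id φ))⟩
    have h0 : ψ⟦-i⟧' ≫ ((shiftFunctorCompIsoId P i (-i) (add_neg_cancel i)).app E).hom = 0 :=
      hE _ ⟨x, hx, -i, ⟨Iso.refl _⟩⟩ _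
    rw [Preadditive.IsIso.comp_right_eq_zero] at h0
    rw [(shiftFunctor P (-i)).map_eq_zero_iff.1 h0]
    exact zero_comp
  · intro E hE
    refine IsZero.of_full_of_faithful_of_isZero ι E (isZero_of_hom_to_sky E.property fun x hx i φ => ?_)
    have h0 := hE _ ⟨x, hx, i, ⟨Iso.refl _⟩⟩
      (ObjectProperty.homMk (φ ≫ ((ι.commShiftIso i).app (O x hx)).inv) : E ⟶ (O x hx)⟦i⟧)
    have h1 : φ ≫ ((ι.commShiftIso i).app (O x hx)).inv = 0 := congrArg (fun z => z.hom) h0
    rwa [Preadditive.IsIso.comp_right_eq_zero] at h1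
  · rintro s t ⟨x, hx, i, ⟨e⟩⟩ ⟨x', hx', j, ⟨e'⟩⟩
    exact bijective_map_of_iso F e (e' ≪≫ (shiftFunctorAdd' P (j - i) i j (sub_add_cancel j i)).app _)
      (bijective_map_shift F i (h x x' hx hx' _ _ (j - i)))

end Groth.Agent.H02CA.Spanning
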