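import Mathlib.CategoryTheory.Adjunction.FullyFaithful
import Mathlib.CategoryTheory.Triangulated.Functor
import Mathlib.CategoryTheory.Triangulated.Yoneda

/-!
# Full faithfulness from a spanning class
-/

set_option autoImplicit false

universe v v' u u'

open CategoryTheory CategoryTheory.Limits CategoryTheory.Pretriangulated

namespace Groth.Agent.H02CA.Spanning

variable {C : Type u} [Category.{v} C] [Preadditive C] [HasZeroObject C] [HasShift C ℤ]
  [∀ n : ℤ, (shiftFunctor C n).Additive] [Pretriangulated C] {S : C → Prop}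

/-- Bijectivity on shifted test objects, in the source. -/
lemma bijective_shift (hS : ∀ s, S s → ∀ n : ℤ, S (s⟦n⟧)) {A B : C} (f : A ⟶ B)
    (h : ∀ s, S s → Function.Bijective fun u : s ⟶ A => u ≫ f) (s : C) (hs : S s) (n : ℤ) :
    Function.Bijective fun u : s ⟶ A⟦n⟧ => u ≫ f⟦n⟧' := by
  let c := shiftFunctorCompIsoId C (-n) n (neg_add_cancel n)
  obtain ⟨hi, hsu⟩ := h _ (hS s hs (-n))
  refine ⟨fun a b hab => ?_, fun v => ?_⟩
  · obtain ⟨a', ha'⟩ := (shiftFunctor C n).map_surjective (c.hom.app s ≫ a)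
    obtain ⟨b', hb'⟩ := (shiftFunctor C n).map_surjective (c.hom.app s ≫ b)
    have : a' = b' := hi ((shiftFunctor C n).map_injective (by
      simp only [Functor.map_comp]
      rw [ha', hb']
      simpa using hab))
    rw [← cancel_epi (c.hom.app s), ← ha', ← hb', this]
  · obtain ⟨v', hv'⟩ := (shiftFunctor C n).map_surjective (c.hom.app s ≫ v)
    obtain ⟨u, hu⟩ := hsu v'
    refine ⟨c.inv.app s ≫ u⟦n⟧', ?_⟩
    simp only at hu ⊢
    rw [Category.assoc, ← Functor.map_comp, hu, hv']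
    simp

/-- Bijectivity on shifted test objects, in the target. -/
lemma bijective_shift' (hS : ∀ s, S s → ∀ n : ℤ, S (s⟦n⟧)) {A B : C} (f : A ⟶ B)
    (h : ∀ s, S s → Function.Bijective fun u : B ⟶ s => f ≫ u) (s : C) (hs : S s) (n : ℤ) :
    Function.Bijective fun u : B⟦n⟧ ⟶ s => f⟦n⟧' ≫ u := by
  let c := shiftFunctorCompIsoId C (-n) n (neg_add_cancel n)
  obtain ⟨hi, hsu⟩ := h _ (hS s hs (-n))
  refine ⟨fun a b hab => ?_, fun v => ?_⟩
  · obtain ⟨a', ha'⟩ := (shiftFunctor C n).map_surjective (a ≫ c.inv.app s)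
    obtain ⟨b', hb'⟩ := (shiftFunctor C n).map_surjective (b ≫ c.inv.app s)
    have : a' = b' := hi ((shiftFunctor C n).map_injective (by
      simp only [Functor.map_comp]
      rw [ha', hb', ← Category.assoc, ← Category.assoc]
      exact congrArg (· ≫ c.inv.app s) hab))
    rw [← cancel_mono (c.inv.app s), ← ha', ← hb', this]
  · obtain ⟨v', hv'⟩ := (shiftFunctor C n).map_surjective (v ≫ c.inv.app s)
    obtain ⟨u, hu⟩ := hsu v'
    refine ⟨u⟦n⟧' ≫ c.hom.app s, ?_⟩
    simp only at hu ⊢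
    rw [← Category.assoc, ← Functor.map_comp, hu, hv']
    simp

/-- A map seen as invertible by maps from a spanning class is invertible. -/
theorem isIso_of_from (hS : ∀ s, S s → ∀ n : ℤ, S (s⟦n⟧))
    (hzero : ∀ E : C, (∀ s, S s → ∀ φ : s ⟶ E, φ = 0) → IsZero E)
    {A B : C} (f : A ⟶ B) (h : ∀ s, S s → Function.Bijective fun u : s ⟶ A => u ≫ f) : IsIso f := by
  obtain ⟨Z, g, δ, hT⟩ := distinguished_cocone_triangle f
  have hZ : IsZero Z := hzero Z fun s hs φ => by
    have h31 : δ ≫ f⟦(1 : ℤ)⟧' = 0 := comp_distTriang_mor_zero₃₁ _ hT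
    have h1 : φ ≫ δ = 0 := (bijective_shift hS f h s hs 1).1 (by
      simp only
      rw [Category.assoc, h31, comp_zero, zero_comp])
    obtain ⟨ψ, hψ⟩ := Triangle.coyoneda_exact₃ _ hT φ h1
    obtain ⟨χ, hχ⟩ := (h s hs).2 ψ
    have h12 : f ≫ g = 0 := comp_distTriang_mor_zero₁₂ _ hT
    simp only at hχ
    have hψ' : φ = ψ ≫ g := hψ
    change s ⟶ B at ψ
    rw [hψ', ← hχ]
    exact (Category.assoc _ _ _).trans ((congrArg (χ ≫ ·) h12).trans comp_zero)
  exact (Triangle.isZero₃_iff_isIso₁ _ hT).1 hZ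

/-- A map seen as invertible by maps to a spanning class is invertible. -/
theorem isIso_of_to (hS : ∀ s, S s → ∀ n : ℤ, S (s⟦n⟧))
    (hzero : ∀ E : C, (∀ s, S s → ∀ φ : E ⟶ s, φ = 0) → IsZero E)
    {A B : C} (f : A ⟶ B) (h : ∀ s, S s → Function.Bijective fun u : B ⟶ s => f ≫ u) : IsIso f := by
  obtain ⟨Z, g, δ, hT⟩ := distinguished_cocone_triangle f
  have hZ : IsZero Z := hzero Z fun s hs φ => by
    have h12 : f ≫ g = 0 := comp_distTriang_mor_zero₁₂ _ hT
    have h1 : g ≫ φ = 0 := (h s hs).1 (by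
      simp only
      rw [← Category.assoc, h12, zero_comp, comp_zero])
    obtain ⟨ψ, hψ⟩ := Triangle.yoneda_exact₃ _ hT φ h1
    change A⟦(1 : ℤ)⟧ ⟶ s at ψ
    obtain ⟨χ, hχ⟩ := (bijective_shift' hS f h s hs 1).2 ψ
    have h31 : δ ≫ f⟦(1 : ℤ)⟧' = 0 := comp_distTriang_mor_zero₃₁ _ hT
    simp only at hχ
    have hψ' : φ = δ ≫ ψ := hψ
    rw [hψ', ← hχ, ← Category.assoc, h31, zero_comp]
  exact (Triangle.isZero₃_iff_isIso₁ _ hT).1 hZ

variable {D : Type u'} [Category.{v'} D]

/-- Bijectivity on a spanning class gives full faithfulness, given both adjoints. -/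
theorem fullyFaithful_of_spanning (F : C ⥤ D) [F.IsLeftAdjoint] [F.IsRightAdjoint]
    (hS : ∀ s, S s → ∀ n : ℤ, S (s⟦n⟧))
    (hl : ∀ E : C, (∀ s, S s → ∀ φ : s ⟶ E, φ = 0) → IsZero E)
    (hr : ∀ E : C, (∀ s, S s → ∀ φ : E ⟶ s, φ = 0) → IsZero E)
    (h : ∀ s t, S s → S t → Function.Bijective fun f : s ⟶ t => F.map f) : F.Full ∧ F.Faithful := by
  let adjL := Adjunction.ofIsRightAdjoint F
  let adjR := Adjunction.ofIsLeftAdjoint F
  have hc : ∀ s, S s → IsIso (adjL.counit.app s) := fun s hs => isIso_of_to hS hr _ fun t ht => by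
    have e : (fun u : s ⟶ t => adjL.counit.app s ≫ u) =
        (adjL.homEquiv (F.obj s) t).symm ∘ fun f : s ⟶ t => F.map f := funext fun u => by
      simp [Adjunction.homEquiv_counit]
    erw [e]
    exact (adjL.homEquiv (F.obj s) t).symm.bijective.comp (h s t hs ht)
  have h2 : ∀ s, S s → ∀ B : C, Function.Bijective fun f : s ⟶ B => F.map f := fun s hs B => by
    haveI := hc s hs
    have hb : Function.Bijective fun u : s ⟶ B => adjL.counit.app s ≫ u :=
      ⟨fun a b hab => (cancel_epi (adjL.counit.app s)).1 hab, fun v => ⟨inv (adjL.counit.app s) ≫ v, by simp⟩⟩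
    have e : (fun f : s ⟶ B => F.map f) =
        (adjL.homEquiv (F.obj s) B) ∘ fun u : s ⟶ B => adjL.counit.app s ≫ u := funext fun u => by
      simp [Adjunction.homEquiv_unit]
    rw [e]
    exact (adjL.homEquiv (F.obj s) B).bijective.comp hb
  haveI : ∀ B, IsIso (adjR.unit.app B) := fun B => isIso_of_from hS hl _ fun s hs => by
    have e : (fun u : s ⟶ B => u ≫ adjR.unit.app B) =
        (adjR.homEquiv s (F.obj B)) ∘ fun f : s ⟶ B => F.map f := funext fun u => by
      simp [Adjunction.homEquiv_unit]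
    erw [e]
    exact (adjR.homEquiv s (F.obj B)).bijective.comp (h2 s hs B)
  haveI : IsIso adjR.unit := NatIso.isIso_of_isIso_app _
  exact ⟨adjR.fullyFaithfulLOfIsIsoUnit.full, adjR.fullyFaithfulLOfIsIsoUnit.faithful⟩

end Groth.Agent.H02CA.Spanning

namespace Groth.Agent.H02CA.Spanning

variable {C : Type*} [Category C] {D : Type*} [Category D] (F : C ⥤ D)

/-- Bijectivity of a functor on a morphism set is invariant under isomorphism. -/
lemma bijective_map_of_iso {A A' B B' : C} (a : A' ≅ A) (b : B' ≅ B)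
    (h : Function.Bijective fun f : A ⟶ B => F.map f) : Function.Bijective fun f : A' ⟶ B' => F.map f := by
  refine ⟨fun f g hfg => ?_, fun v => ?_⟩
  · have := h.1 (a₁ := a.inv ≫ f ≫ b.hom) (a₂ := a.inv ≫ g ≫ b.hom) (by simp only at hfg ⊢; simp [hfg])
    simpa using this
  · obtain ⟨u, hu⟩ := h.2 (F.map a.inv ≫ v ≫ F.map b.hom)
    refine ⟨a.hom ≫ u ≫ b.inv, ?_⟩
    simp only at hu ⊢
    rw [F.map_comp, F.map_comp, hu]
    simp [← Functor.map_comp, ← Functor.map_comp_assoc]

variable [HasShift C ℤ] [HasShift D ℤ] [F.CommShift ℤ]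

/-- Bijectivity of a functor on a morphism set is invariant under shifting both sides. -/
lemma bijective_map_shift {A B : C} (n : ℤ) (h : Function.Bijective fun f : A ⟶ B => F.map f) :
    Function.Bijective fun f : A⟦n⟧ ⟶ B⟦n⟧ => F.map f := by
  have e : ∀ f : A ⟶ B, F.map (f⟦n⟧') = (F.commShiftIso n).hom.app A ≫ (F.map f)⟦n⟧' ≫ (F.commShiftIso n).inv.app B :=
    fun f => by
      have := (F.commShiftIso n).hom.naturality f
      simp only [Functor.comp_map] at this
      rw [← Category.assoc, ← this, Category.assoc, Iso.hom_inv_id_app]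
      exact (Category.comp_id _).symm
  refine ⟨fun f g hfg => ?_, fun v => ?_⟩
  · obtain ⟨f', rfl⟩ := (shiftFunctor C n).map_surjective f
    obtain ⟨g', rfl⟩ := (shiftFunctor C n).map_surjective g
    simp only [e, cancel_epi, cancel_mono] at hfg
    rw [h.1 ((shiftFunctor D n).map_injective hfg)]
  · obtain ⟨w, hw⟩ := (shiftFunctor D n).map_surjective
      ((F.commShiftIso n).inv.app A ≫ v ≫ (F.commShiftIso n).hom.app B)
    obtain ⟨u, hu⟩ := h.2 w
    refine ⟨u⟦n⟧', ?_⟩
    simp only at hu ⊢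
    rw [e, hu, hw]
    simp

end Groth.Agent.H02CA.Spanning
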